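import Mathlib

set_option autoImplicit false
universe u

open MvPolynomial

namespace Groth.Agent.ConicDiscLib

variable {K : Type u} [Field K]

theorem span_X_eq_ker (σ : Type*) :
    Ideal.span (Set.range (X : σ → MvPolynomial σ K)) = RingHom.ker (constantCoeff (R := K) (σ := σ)) := by
  ext p
  rw [← pow_one (Ideal.span _), show Ideal.span (Set.range (X : σ → MvPolynomial σ K)) = MvPolynomial.idealOfVars σ K from rfl,
    MvPolynomial.mem_pow_idealOfVars_iff', RingHom.mem_ker]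
  simp only [Nat.lt_one_iff, Finsupp.degree_eq_zero_iff, forall_eq]
  rfl

theorem map_le_rename {σ τ : Type*} (f : σ → τ) :
    (Ideal.span (Set.range (X : σ → MvPolynomial σ K))).map (rename f : MvPolynomial σ K →ₐ[K] MvPolynomial τ K) ≤
      Ideal.span (Set.range (X : τ → MvPolynomial τ K)) := by
  rw [Ideal.map_span, Ideal.span_le]
  rintro _ ⟨_, ⟨i, rfl⟩, rfl⟩
  rw [rename_X]; exact Ideal.subset_span ⟨_, rfl⟩

theorem main (h2 : (2 : K) ≠ 0) (G₂ G₃ G₄ : MvPolynomial (Fin 2) K)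
    (hQ : rename (Fin.castSucc : Fin 2 → Fin 3) G₂ * X (2 : Fin 3) ^ 2
        + 2 * rename (Fin.castSucc : Fin 2 → Fin 3) G₃ * X (2 : Fin 3)
        + rename (Fin.castSucc : Fin 2 → Fin 3) G₄
        ∈ Ideal.span (Set.range (X : Fin 3 → MvPolynomial (Fin 3) K)))
    (hD : G₃ ^ 2 - G₂ * G₄ ∈ Ideal.span (Set.range (X : Fin 2 → MvPolynomial (Fin 2) K))) :
    G₃ ^ 2 - G₂ * G₄ ∈ (Ideal.span (Set.range (X : Fin 2 → MvPolynomial (Fin 2) K))) ^ 2 ↔
      (rename (Fin.castSucc : Fin 2 → Fin 3) G₂ * X (2 : Fin 3) ^ 2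
          + 2 * rename (Fin.castSucc : Fin 2 → Fin 3) G₃ * X (2 : Fin 3)
          + rename (Fin.castSucc : Fin 2 → Fin 3) G₄
          ∈ (Ideal.span (Set.range (X : Fin 3 → MvPolynomial (Fin 3) K))) ^ 2 ∨
        (G₂ ∈ Ideal.span (Set.range (X : Fin 2 → MvPolynomial (Fin 2) K)) ∧
          G₃ ∈ Ideal.span (Set.range (X : Fin 2 → MvPolynomial (Fin 2) K)) ∧
          G₄ ∈ Ideal.span (Set.range (X : Fin 2 → MvPolynomial (Fin 2) K)))) := by
  set m := Ideal.span (Set.range (X : Fin 2 → MvPolynomial (Fin 2) K)) with hm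
  set M := Ideal.span (Set.range (X : Fin 3 → MvPolynomial (Fin 3) K)) with hM
  have hmk : ∀ x, x ∈ m ↔ constantCoeff x = 0 := fun x => by rw [hm, span_X_eq_ker, RingHom.mem_ker]
  have hMk : ∀ x, x ∈ M ↔ constantCoeff x = 0 := fun x => by rw [hM, span_X_eq_ker, RingHom.mem_ker]
  have h4 : G₄ ∈ m := by
    rw [hMk] at hQ
    rw [hmk]
    simpa [constantCoeff_rename] using hQ
  have h3 : G₃ ∈ m := by
    rw [hmk] at hD h4 ⊢
    simpa [h4] using hD
  have hr3 : rename (Fin.castSucc : Fin 2 → Fin 3) G₃ ∈ M := map_le_rename _ (Ideal.mem_map_of_mem _ h3)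
  have hX : (X (2 : Fin 3) : MvPolynomial (Fin 3) K) ∈ M := Ideal.subset_span ⟨2, rfl⟩
  have hQiff : (rename (Fin.castSucc : Fin 2 → Fin 3) G₂ * X (2 : Fin 3) ^ 2
          + 2 * rename (Fin.castSucc : Fin 2 → Fin 3) G₃ * X (2 : Fin 3)
          + rename (Fin.castSucc : Fin 2 → Fin 3) G₄ ∈ M ^ 2) ↔ G₄ ∈ m ^ 2 := by
    rw [Ideal.add_mem_iff_right]
    · constructor
      · intro h
        let π : MvPolynomial (Fin 3) K →ₐ[K] MvPolynomial (Fin 2) K := aeval ![X 0, X 1, 0]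
        have hπ : M.map π ≤ m := by
          rw [hM, Ideal.map_span, Ideal.span_le]
          rintro _ ⟨_, ⟨i, rfl⟩, rfl⟩
          fin_cases i <;> simp [π, hm]
          · exact Ideal.subset_span ⟨0, rfl⟩
          · exact Ideal.subset_span ⟨1, rfl⟩
        have h' := Ideal.mem_map_of_mem π h
        rw [Ideal.map_pow] at h'
        have he : π.comp (rename (Fin.castSucc : Fin 2 → Fin 3)) = AlgHom.id K (MvPolynomial (Fin 2) K) := by
          refine MvPolynomial.algHom_ext fun i => ?_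
          fin_cases i <;> simp [π]
        rw [show π (rename (Fin.castSucc : Fin 2 → Fin 3) G₄) = G₄ from AlgHom.congr_fun he G₄] at h'
        exact Ideal.pow_right_mono hπ 2 h'
      · intro h
        have h' := Ideal.mem_map_of_mem (rename (Fin.castSucc : Fin 2 → Fin 3) : MvPolynomial (Fin 2) K →ₐ[K] MvPolynomial (Fin 3) K) h
        rw [Ideal.map_pow] at h'
        exact Ideal.pow_right_mono (map_le_rename _) 2 h'
    · refine Ideal.add_mem _ (Ideal.mul_mem_left _ _ (Ideal.pow_mem_pow hX 2)) ?_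
      rw [mul_assoc, pow_two]
      exact Ideal.mul_mem_left _ _ (Ideal.mul_mem_mul hr3 hX)
  rw [hQiff, Submodule.sub_mem_iff_right _ (Ideal.pow_mem_pow h3 2)]
  constructor
  · intro h
    by_cases hg : G₂ ∈ m
    · exact Or.inr ⟨hg, h3, h4⟩
    · left
      have hc : constantCoeff G₂ ≠ 0 := fun e => hg ((hmk _).mpr e)
      have hsub : G₂ - C (constantCoeff G₂) ∈ m := (hmk _).mpr (by simp)
      have h' : C (constantCoeff G₂) * G₄ ∈ m ^ 2 := by
        have : (G₂ - C (constantCoeff G₂)) * G₄ ∈ m ^ 2 := by rw [pow_two]; exact Ideal.mul_mem_mul hsub h4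
        have := Ideal.sub_mem _ h this
        rwa [show G₂ * G₄ - (G₂ - C (constantCoeff G₂)) * G₄ = C (constantCoeff G₂) * G₄ by ring] at this
      exact (Ideal.unit_mul_mem_iff_mem _ ((IsUnit.mk0 _ hc).map C)).mp h'
  · rintro (h | ⟨hg, -, -⟩)
    · exact Ideal.mul_mem_left _ _ h
    · rw [pow_two]; exact Ideal.mul_mem_mul hg h4

end Groth.Agent.ConicDiscLib
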